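import Groth.Agent.InsepLenLib.Scheme
import Groth.Agent.EtaleSplit.LengthWeight
import Groth.Agent.CycLib.DivPull
import Mathlib.FieldTheory.Normal.Basic
import Mathlib.FieldTheory.SeparableClosure

/-!
# Descent of cycles along finite normal field extensions
-/

set_option autoImplicit false
set_option backward.isDefEq.respectTransparency false
set_option linter.style.haveILetI false
set_option linter.unusedSectionVars false
set_option maxHeartbeats 1000000

universe u

open CategoryTheory CategoryTheory.Limits AlgebraicGeometry TopologicalSpace TensorProduct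

noncomputable section

namespace Groth.Agent.InsepDescLib

open CycLib

/-- The multiplicities of a purely inseparable base change divide the degree. -/
theorem mult_dvd_finrank (k : Type u) [Field k] (L : Type u) [Field L] [Algebra k L] [FiniteDimensional k L]
    [IsPurelyInseparable k L] {X : Scheme.{u}} (f : X ⟶ Spec (CommRingCat.of k)) [LocallyOfFiniteType f]
    (x' : ↥(pullback f (Spec.map (CommRingCat.ofHom (algebraMap k L))))) :
    mult (pullback.fst f (Spec.map (CommRingCat.ofHom (algebraMap k L)))) x' ∣ (Module.finrank k L : ℤ) := by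
  set π := pullback.fst f (Spec.map (CommRingCat.ofHom (algebraMap k L))) with hπ
  haveI : IsLocallyNoetherian (pullback f (Spec.map (CommRingCat.ofHom (algebraMap k L)))) :=
    LocallyOfFiniteType.isLocallyNoetherian (pullback.snd f (Spec.map (CommRingCat.ofHom (algebraMap k L))))
  letI := (InsepLenLib.residueHom k f (π x')).toAlgebra
  let K := X.residueField (π x')
  obtain ⟨e⟩ := InsepLenLib.exists_fiber_iso k L f (π x')
  haveI := InsepLenLib.isLocalRing_tensor k L K
  haveI := InsepLenLib.subsingleton_spectrum k L K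
  obtain ⟨z, hz⟩ : ∃ z : π.fiber (π x'), π.fiberι (π x') z = x' :=
    ⟨(π.fiberHomeo (π x')).symm ⟨x', rfl⟩, congrArg Subtype.val ((π.fiberHomeo (π x')).apply_symm_apply ⟨x', rfl⟩)⟩
  have h4 := CycLib.length_stalk_fiber π (π x') z
  rw [hz] at h4
  rw [mult, ← h4, ← InsepLenLib.length_ringEquiv (asIso (e.hom.stalkMap z)).commRingCatIsoToRingEquiv,
    InsepLenLib.length_stalk_spec, Int.natCast_dvd_natCast]
  let c : K ⊗[k] L ≃ₐ[k] L ⊗[k] K := Algebra.TensorProduct.comm k K L
  letI : Algebra K (L ⊗[k] K) := (c.toRingEquiv.toRingHom.comp (algebraMap K (K ⊗[k] L))).toAlgebra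
  let cK : K ⊗[k] L ≃ₐ[K] L ⊗[k] K := AlgEquiv.ofRingEquiv (f := c.toRingEquiv) fun _ => rfl
  haveI : Module.Finite K (L ⊗[k] K) := Module.Finite.equiv cK.toLinearEquiv
  have h := CycLib.finrank_eq_length_mul K (R := L ⊗[k] K) (L ⊗[k] K)
  rw [← cK.toLinearEquiv.finrank_eq, Module.finrank_baseChange] at h
  exact Dvd.intro _ h.symm

/-- Multiplicities along an isomorphism of the source. -/
theorem mult_iso_comp {X X' Y : Scheme.{u}} (e : X' ⟶ X) [IsIso e] (p : X ⟶ Y) (x : X') :
    mult (e ≫ p) x = mult p (e x) := by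
  unfold mult
  refine congrArg (fun l : ℕ∞ => ((l.toNat : ℕ) : ℤ))
    (length_quot_ringEquiv (asIso (e.stalkMap x)).commRingCatIsoToRingEquiv (fibIdeal p (e x)) _ ?_)
  refine (congrArg (fun φ : Y.presheaf.stalk ((e ≫ p) x) ⟶ X'.presheaf.stalk x => Ideal.map φ.hom _)
    (Scheme.Hom.stalkMap_comp e p x)).trans ?_
  rw [CommRingCat.hom_comp, ← Ideal.map_map]
  rfl

/-- An unramified map does not change the multiplicities. -/
theorem mult_comp_unramified {X X' Y : Scheme.{u}} (e : X' ⟶ X) (p : X ⟶ Y) [FormallyUnramified p]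
    [LocallyOfFiniteType p] (x : X') : mult (e ≫ p) x = mult e x := by
  unfold mult
  refine congrArg (fun I => ((Module.length (X'.presheaf.stalk x) (X'.presheaf.stalk x ⧸ I)).toNat : ℤ)) ?_
  refine (congrArg (fun φ : Y.presheaf.stalk ((e ≫ p) x) ⟶ X'.presheaf.stalk x => Ideal.map φ.hom _)
    (Scheme.Hom.stalkMap_comp e p x)).trans ?_
  rw [CommRingCat.hom_comp, ← Ideal.map_map]
  exact congrArg (Ideal.map _) (EtaleSplit.map_maximalIdeal_of_unramified p (e x))

variable {k : Type u} [Field k] {k' : Type u} [Field k'] [Algebra k k'] [FiniteDimensional k k']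
  {X : Scheme.{u}} (f : X ⟶ Spec (CommRingCat.of k))

local notation "π" => pullback.fst f (Spec.map (CommRingCat.ofHom (algebraMap k k')))

theorem mult_dvd_finInsepDegree [LocallyOfFiniteType f]
    (x' : ↥(pullback f (Spec.map (CommRingCat.ofHom (algebraMap k k'))))) :
    mult π x' ∣ (Field.finInsepDegree k k' : ℤ) := by
  let ks := separableClosure k k'
  let ss := Spec.map (CommRingCat.ofHom (algebraMap k ks))
  let si := Spec.map (CommRingCat.ofHom (algebraMap ks k'))
  have hs : si ≫ ss = Spec.map (CommRingCat.ofHom (algebraMap k k')) := (Spec.map_comp _ _).symm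
  haveI : IsPurelyInseparable ks k' := separableClosure.isPurelyInseparable k k'
  haveI : Algebra.IsSeparable k ks := separableClosure.isSeparable k k'
  haveI : FormallyUnramified ss := by
    refine (HasRingHomProperty.Spec_iff (P := @FormallyUnramified)).2 (RingHom.formallyUnramified_algebraMap.2 ?_)
    exact Algebra.FormallyUnramified.of_isSeparable k ks
  haveI : LocallyOfFiniteType ss := (HasRingHomProperty.Spec_iff (P := @LocallyOfFiniteType)).2
    (RingHom.finiteType_algebraMap.2 inferInstance)
  let p₁ := pullback.fst f ss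
  haveI : FormallyUnramified p₁ := MorphismProperty.pullback_fst (P := @FormallyUnramified) _ _ inferInstance
  haveI : LocallyOfFiniteType p₁ := MorphismProperty.pullback_fst (P := @LocallyOfFiniteType) _ _ inferInstance
  haveI : LocallyOfFiniteType (pullback.snd f ss) := MorphismProperty.pullback_snd _ _ inferInstance
  let g : pullback f (Spec.map (CommRingCat.ofHom (algebraMap k k'))) ⟶ pullback f ss :=
    pullback.lift π (pullback.snd f _ ≫ si) (by rw [Category.assoc, hs]; exact pullback.condition)
  have sq : IsPullback g (pullback.snd f _) (pullback.snd f ss) si := by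
    refine IsPullback.of_right (t := IsPullback.of_hasPullback f ss) ?_ (pullback.lift_snd _ _ _)
    rw [pullback.lift_fst, hs]
    exact IsPullback.of_hasPullback f _
  have h1 : mult π x' = mult g x' := by
    rw [← mult_comp_unramified g p₁ x', show g ≫ p₁ = π from pullback.lift_fst _ _ _]
  have h2 : mult g x' = mult (pullback.fst (pullback.snd f ss) si) (sq.isoPullback.hom x') := by
    rw [← mult_iso_comp, sq.isoPullback_hom_fst]
  rw [h1, h2]
  exact mult_dvd_finrank ks k' (pullback.snd f ss) _

theorem mult_ne_zero [LocallyOfFiniteType f]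
    (x' : ↥(pullback f (Spec.map (CommRingCat.ofHom (algebraMap k k'))))) : mult π x' ≠ 0 := fun h => by
  have h1 := mult_dvd_finInsepDegree f x'
  rw [h, zero_dvd_iff, Field.finInsepDegree] at h1
  exact (Module.finrank_pos (R := separableClosure k k') (M := k')).ne' (by exact_mod_cast h1)

/-- Automorphisms act transitively on the fibres. -/
theorem exists_conj [Normal k k'] (x y : ↥(pullback f (Spec.map (CommRingCat.ofHom (algebraMap k k')))))
    (h : π x = π y) :
    ∃ (σ : k' ≃ₐ[k] k') (t : pullback f (Spec.map (CommRingCat.ofHom (algebraMap k k'))) ⟶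
        pullback f (Spec.map (CommRingCat.ofHom (algebraMap k k')))), IsIso t ∧ t ≫ π = π ∧
      t ≫ pullback.snd f _ = pullback.snd f _ ≫ Spec.map (CommRingCat.ofHom σ.toAlgHom.toRingHom) ∧ t x = y := by
  haveI : IsFinite (Spec.map (CommRingCat.ofHom (algebraMap k k'))) :=
    (IsFinite.SpecMap_iff _).2 (RingHom.finite_algebraMap.2 inferInstance)
  haveI : IsFinite π := MorphismProperty.pullback_fst (P := @IsFinite) _ _ inferInstance
  let Ω := AlgebraicClosure (X.residueField (π x))
  have hpt : ∀ (z : ↥(pullback f (Spec.map (CommRingCat.ofHom (algebraMap k k'))))) (hz : π z = π x),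
      ∃ a : Spec (CommRingCat.of Ω) ⟶ pullback f (Spec.map (CommRingCat.ofHom (algebraMap k k'))),
        a (IsLocalRing.closedPoint Ω) = z ∧ a ≫ π =
          Spec.map (CommRingCat.ofHom (algebraMap (X.residueField (π x)) Ω)) ≫ X.fromSpecResidueField (π x) := by
    intro z hz
    have key : ∀ (p : X) (hp : π z = p) (Ω' : Type u) [Field Ω'] [IsAlgClosed Ω'] (j : X.residueField p →+* Ω'),
        ∃ a : Spec (CommRingCat.of Ω') ⟶ pullback f (Spec.map (CommRingCat.ofHom (algebraMap k k'))),
          a (IsLocalRing.closedPoint Ω') = z ∧ a ≫ π = Spec.map (CommRingCat.ofHom j) ≫ X.fromSpecResidueField p := by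
      rintro _ rfl Ω' _ _ j
      letI := ((π).residueFieldMap z).hom.toAlgebra
      letI := j.toAlgebra
      haveI : Algebra.IsAlgebraic (X.residueField (π z))
          ((pullback f (Spec.map (CommRingCat.ofHom (algebraMap k k')))).residueField z) :=
        trdeg_eq_zero_iff.1 (InsepLenLib.resTrdegAt_eq_zero_of_integral π z)
      let l : (pullback f (Spec.map (CommRingCat.ofHom (algebraMap k k')))).residueField z →ₐ[X.residueField (π z)] Ω' :=
        IsAlgClosed.lift
      refine ⟨Spec.map (CommRingCat.ofHom l.toRingHom) ≫ Scheme.fromSpecResidueField _ z,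
        Scheme.fromSpecResidueField_apply z _, ?_⟩
      rw [Category.assoc, ← Scheme.Hom.SpecMap_residueFieldMap_fromSpecResidueField, ← Category.assoc, ← Spec.map_comp]
      exact congrArg (fun φ => Spec.map φ ≫ X.fromSpecResidueField _) (CommRingCat.hom_ext (RingHom.ext l.commutes))
    exact key _ hz Ω _
  obtain ⟨a, hax, ha⟩ := hpt x rfl
  obtain ⟨b, hby, hb⟩ := hpt y h.symm
  let φa : k' →+* Ω := (Spec.preimage (a ≫ pullback.snd f _)).hom
  let φb : k' →+* Ω := (Spec.preimage (b ≫ pullback.snd f _)).hom
  have hφa : Spec.map (CommRingCat.ofHom φa) = a ≫ pullback.snd f _ := Spec.map_preimage _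
  have hφb : Spec.map (CommRingCat.ofHom φb) = b ≫ pullback.snd f _ := Spec.map_preimage _
  have hk : φb.comp (algebraMap k k') = φa.comp (algebraMap k k') := by
    have h1 : Spec.map (CommRingCat.ofHom (φb.comp (algebraMap k k'))) =
        Spec.map (CommRingCat.ofHom (φa.comp (algebraMap k k'))) := by
      rw [CommRingCat.ofHom_comp, CommRingCat.ofHom_comp, Spec.map_comp, Spec.map_comp, hφa, hφb, Category.assoc,
        Category.assoc, ← pullback.condition, ← Category.assoc, ← Category.assoc, ha, hb]
    exact congrArg CommRingCat.Hom.hom (Spec.map_injective h1)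
  letI : Algebra k' Ω := φa.toAlgebra
  letI : Algebra k Ω := (φa.comp (algebraMap k k')).toAlgebra
  haveI : IsScalarTower k k' Ω := .of_algebraMap_eq fun _ => rfl
  let ψ : k' →ₐ[k] Ω := { φb with commutes' := fun c => congr($hk c) }
  let σ : k' ≃ₐ[k] k' := AlgHom.restrictNormal' ψ k'
  have hσ : φa.comp σ.toAlgHom.toRingHom = φb := RingHom.ext fun c => ψ.restrictNormal_commutes k' c
  let s := Spec.map (CommRingCat.ofHom (algebraMap k k'))
  let e : Spec (CommRingCat.of k') ≅ Spec (CommRingCat.of k') :=
    Scheme.Spec.mapIso σ.toRingEquiv.toCommRingCatIso.op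
  have hw : Spec.map (CommRingCat.ofHom σ.toAlgHom.toRingHom) ≫ s = s := by
    rw [← Spec.map_comp]
    exact congrArg Spec.map (CommRingCat.hom_ext (RingHom.ext σ.commutes))
  haveI : IsIso (Spec.map (CommRingCat.ofHom σ.toAlgHom.toRingHom)) := inferInstanceAs (IsIso e.hom)
  let t : pullback f s ⟶ pullback f s := pullback.map f s f s (𝟙 _) (Spec.map (CommRingCat.ofHom σ.toAlgHom.toRingHom))
    (𝟙 _) (by simp) (by rw [Category.comp_id]; exact hw.symm)
  have ht₁ : t ≫ π = π := (pullback.lift_fst _ _ _).trans (Category.comp_id _)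
  have ht₂ : t ≫ pullback.snd f s = pullback.snd f s ≫ Spec.map (CommRingCat.ofHom σ.toAlgHom.toRingHom) :=
    pullback.lift_snd _ _ _
  refine ⟨σ, t, inferInstance, ht₁, ht₂, ?_⟩
  have hab : a ≫ t = b := by
    apply pullback.hom_ext
    · rw [Category.assoc, ht₁, ha, hb]
    · rw [Category.assoc, ht₂, ← Category.assoc, ← hφa, ← hφb, ← Spec.map_comp, ← CommRingCat.ofHom_comp, hσ]
  rw [← hax, ← hby, ← hab]
  rfl

/-- A cycle invariant under the automorphisms descends. -/
theorem existsUnique_descent [Normal k k'] [LocallyOfFiniteType f]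
    (Z' : AlgebraicCycle (pullback f (Spec.map (CommRingCat.ofHom (algebraMap k k')))) ℤ)
    (hZ' : ∀ (σ : k' ≃ₐ[k] k')
      (t : pullback f (Spec.map (CommRingCat.ofHom (algebraMap k k'))) ⟶
        pullback f (Spec.map (CommRingCat.ofHom (algebraMap k k')))),
      t ≫ π = π → t ≫ pullback.snd f _ = pullback.snd f _ ≫ Spec.map (CommRingCat.ofHom σ.toAlgHom.toRingHom) →
      ∀ x', Z' (t.base x') = Z' x') :
    ∃! Z : AlgebraicCycle X ℤ, ∀ x', (Field.finInsepDegree k k' : ℤ) * Z' x' = Z (π x') * mult π x' := by
  classical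
  haveI : IsFinite (Spec.map (CommRingCat.ofHom (algebraMap k k'))) :=
    (IsFinite.SpecMap_iff _).2 (RingHom.finite_algebraMap.2 inferInstance)
  haveI : Surjective (Spec.map (CommRingCat.ofHom (algebraMap k k'))) :=
    ⟨fun p => ⟨Classical.arbitrary (PrimeSpectrum k'), Subsingleton.elim _ _⟩⟩
  haveI : IsFinite π := MorphismProperty.pullback_fst (P := @IsFinite) _ _ inferInstance
  haveI : Surjective π := MorphismProperty.pullback_fst (P := @Surjective) _ _ inferInstance
  choose g hg using (π).surjective
  let N : ℤ := Field.finInsepDegree k k'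
  have hconst : ∀ x', Z' (g (π x')) = Z' x' ∧ mult π (g (π x')) = mult π x' := fun x' => by
    obtain ⟨σ, t, _, h1, h2, h3⟩ := exists_conj f x' (g (π x')) (hg _).symm
    rw [← h3]
    refine ⟨hZ' σ t h1 h2 x', ?_⟩
    rw [← mult_iso_comp, h1]
  let v : X → ℤ := fun x => N / mult π (g x) * Z' (g x)
  let Z : AlgebraicCycle X ℤ :=
    { toFun := v
      supportWithinDomain' := Set.subset_univ _
      supportLocallyFiniteWithinDomain' := fun x _ => by
        obtain ⟨U, hU, hx⟩ := exists_affine x
        refine ⟨U, U.2.mem_nhds hx, ?_⟩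
        refine ((Z'.locallyFiniteSupport.finite_inter_support_of_isCompact
          ((π).isSpectralMap.2 U.isOpen hU.isCompact)).image π).subset ?_
        rintro y ⟨hy, hne⟩
        exact ⟨g y, ⟨show π (g y) ∈ U by rw [hg]; exact hy, right_ne_zero_of_mul hne⟩, hg y⟩ }
  refine ⟨Z, fun x' => ?_, fun W hW => Function.locallyFinsuppWithin.ext fun x => ?_⟩
  · show N * Z' x' = v (π x') * mult π x'
    simp only [v]
    rw [(hconst x').1, (hconst x').2, mul_right_comm, Int.ediv_mul_cancel (mult_dvd_finInsepDegree f x')]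
  · refine mul_right_cancel₀ (mult_ne_zero f (g x)) ?_
    have h1 := hW (g x)
    rw [hg] at h1
    show W x * _ = v x * _
    simp only [v]
    rw [mul_right_comm, Int.ediv_mul_cancel (mult_dvd_finInsepDegree f (g x))]
    exact h1.symm

end Groth.Agent.InsepDescLib
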